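import Groth.Agent.Lib.CurvePoint
import Groth.Agent.Lib.CurveTensor
import Groth.Agent.KodV43.FrobH1
import Groth.Agent.QCoh.Extension
import Groth.Agent.InvX.Tensor
import Groth.Agent.CurveCohLib.GlobGen
import Groth.Agent.Lib.CurveStable
import Groth.Agent.Lib.InvEnd
import Groth.Prelude.Def_ClSub2

/-!
# Surjectivity of multiplication of sections from its restriction to a divisor
-/

set_option autoImplicit false
set_option linter.style.haveILetI false
set_option backward.isDefEq.respectTransparency false
set_option backward.isDefEq.respectTransparency.types false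

universe u

open CategoryTheory CategoryTheory.Limits AlgebraicGeometry TopologicalSpace Opposite MonoidalCategory
open Groth.Agent.PnCoh.Finite (mapLin deltaLin)
open scoped TensorProduct

namespace Groth.Agent.AdjLin43

open Groth.Agent.KFlatLib hiding structureTensorIso
open Groth.Agent.CurveTensor

noncomputable section

variable {X : Scheme.{u}}

/-- A quotient `O → Q` tensored with a module killed by its kernel stays injective. -/
theorem injective_rTensor_of_annihilate {R O Q M : Type u} [CommRing R] [AddCommGroup O] [Module R O]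
    [AddCommGroup Q] [Module R Q] [AddCommGroup M] [Module R M] (π : O →ₗ[R] Q) (hπ : Function.Surjective π)
    (one : O) (hone : ∀ o, ∃ a : R, o = a • one) (hann : ∀ a : R, π (a • one) = 0 → ∀ m : M, a • m = 0) :
    Function.Injective (π.rTensor M) := by
  have hex : Function.Exact ((LinearMap.ker π).subtype.rTensor M) (π.rTensor M) :=
    rTensor_exact M (LinearMap.exact_subtype_ker_map π) hπ
  refine (injective_iff_map_eq_zero _).2 fun z hz => ?_
  obtain ⟨w, rfl⟩ := (hex z).1 hz
  induction w using TensorProduct.induction_on with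
  | zero => rw [map_zero]
  | tmul j m =>
    obtain ⟨a, ha⟩ := hone j.1
    rw [LinearMap.rTensor_tmul, Submodule.subtype_apply, ha, TensorProduct.smul_tmul,
      hann a (by rw [← ha]; exact LinearMap.mem_ker.1 j.2) m, TensorProduct.tmul_zero]
  | add u v hu hv =>
    have hu0 := hu ((LinearMap.exact_subtype_ker_map π |> fun h => (rTensor_exact M h hπ).apply_apply_eq_zero u))
    have hv0 := hv ((LinearMap.exact_subtype_ker_map π |> fun h => (rTensor_exact M h hπ).apply_apply_eq_zero v))
    rw [map_add, hu0, hv0, add_zero]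

/-- Functions in the ideal kill the structure sheaf of the subscheme, also after twisting. -/
theorem smul_twist_eq_zero (I : X.IdealSheafData) (L : X.Modules) (x : X) (a : X.presheaf.stalk x)
    (ha : (DerSch.stalkFunctor X x).map (ClSub.toSubscheme I)
      (a • (show (DerSch.stalkFunctor X x).obj (Coh.structureModule X) from
        (Coh.structureModule X).presheaf.germ ⊤ x trivial (1 : Γ(X, ⊤)))) = 0)
    (q : (DerSch.stalkFunctor X x).obj ((DCoh.tensorBi.obj L).obj (ClSub.quotMod I))) : a • q = 0 := by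
  haveI := CurvePoint.epi_toSubscheme I
  have hQ : ∀ q : (DerSch.stalkFunctor X x).obj (ClSub.quotMod I), a • q = 0 := fun q => by
    obtain ⟨o, rfl⟩ := (ModuleCat.epi_iff_surjective _).1
      (inferInstance : Epi ((DerSch.stalkFunctor X x).map (ClSub.toSubscheme I))) q
    obtain ⟨r, rfl⟩ := CurveCohLib.GlobGen.exists_smul_one x o
    rw [map_smul, smul_comm, ← map_smul, ha, smul_zero]
  let e := ((KFlatLib.stalkTensorLeftIso L x).app (ClSub.quotMod I)).toLinearEquiv
  refine e.injective ?_
  rw [map_smul, map_zero]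
  generalize e q = w
  induction w using TensorProduct.induction_on with
  | zero => rw [smul_zero]
  | tmul l i =>
    exact ((TensorProduct.tmul_smul a l i).symm.trans (congrArg (l ⊗ₜ[_] ·) (hQ i))).trans (TensorProduct.tmul_zero _ l)
  | add u v hu hv => rw [smul_add, hu, hv, add_zero]

/-- Restricting the first factor to the subscheme is injective when the second already lives there. -/
theorem mono_whiskerRight_restrict (I : X.IdealSheafData) (E L : X.Modules) (hE : FlatMod.IsFinLocFree E) :
    Mono ((DCoh.tensorBi.map ((DCoh.tensorBi.obj E).map (ClSub.toSubscheme I))).app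
      ((DCoh.tensorBi.obj L).obj (ClSub.quotMod I))) := by
  let π := ClSub.toSubscheme I
  let M := (DCoh.tensorBi.obj L).obj (ClSub.quotMod I)
  haveI := CurvePoint.epi_toSubscheme I
  refine Preadditive.mono_of_isZero_kernel _ (KFlatLib.isZero_of_stalk _ fun x => ?_)
  haveI : Mono ((DerSch.stalkFunctor X x).map
      ((DCoh.tensorBi.map ((DCoh.tensorBi.obj E).map π)).app M)) := by
    let F := DerSch.stalkFunctor X x
    have hπM : Mono ((tensorRight (F.obj M)).map (F.map π)) :=
      (ModuleCat.mono_iff_injective _).2 (injective_rTensor_of_annihilate (F.map π).hom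
        ((ModuleCat.epi_iff_surjective _).1 inferInstance)
        ((Coh.structureModule X).presheaf.germ ⊤ x trivial (1 : Γ(X, ⊤)))
        (CurveCohLib.GlobGen.exists_smul_one x) (fun a ha => smul_twist_eq_zero I L x a ha))
    haveI := QCoh.free_stalk_of_isFinLocFree hE x
    haveI hflat : Module.Flat (X.presheaf.stalk x) (F.obj E) :=
      (inferInstance : Module.Flat (X.presheaf.stalk x) (E.presheaf.stalk x))
    haveI hEπM : Mono ((tensorLeft (F.obj E)).map ((tensorRight (F.obj M)).map (F.map π))) :=
      (ModuleCat.mono_iff_injective _).2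
        (Module.Flat.lTensor_preserves_injective_linearMap _ ((ModuleCat.mono_iff_injective _).1 hπM))
    haveI h1 : Mono ((tensorRight (F.obj M)).map ((tensorLeft (F.obj E)).map (F.map π))) := by
      have : (tensorRight (F.obj M)).map ((tensorLeft (F.obj E)).map (F.map π)) =
          (α_ _ _ _).hom ≫ (tensorLeft (F.obj E)).map ((tensorRight (F.obj M)).map (F.map π)) ≫ (α_ _ _ _).inv := by
        exact (MonoidalCategory.whisker_assoc _ _ _)
      rw [this]
      infer_instance
    haveI h2 : Mono ((tensorRight (F.obj M)).map (F.map ((DCoh.tensorBi.obj E).map π))) :=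
      ((MorphismProperty.monomorphisms (ModuleCat.{u} (X.presheaf.stalk x))).arrow_mk_iso_iff
        ((tensorRight (F.obj M)).mapArrow.mapIso
          (((Functor.mapArrowFunctor _ _).mapIso (KFlatLib.stalkTensorLeftIso E x)).app (Arrow.mk π)))).2 h1
    exact ((MorphismProperty.monomorphisms (ModuleCat.{u} (X.presheaf.stalk x))).arrow_mk_iso_iff
      (((Functor.mapArrowFunctor _ _).mapIso (KFlatLib.stalkTensorRightIso M x)).app
        (Arrow.mk ((DCoh.tensorBi.obj E).map π)))).2 h2
  exact (isZero_kernel_of_mono ((DerSch.stalkFunctor X x).map _)).of_iso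
    (PreservesKernel.iso (DerSch.stalkFunctor X x) _)

/-- Global sections surject when the first cohomology of the kernel vanishes. -/
theorem surjective_app_top (k : Type u) [Field k] [X.Over (Spec (CommRingCat.of k))]
    {S : ShortComplex X.Modules} (hS : S.ShortExact) (h : Subsingleton (Coh.HH X S.X₁ 1)) :
    Function.Surjective (S.g.app ⊤) := by
  intro z
  let x := (Sheaf.H.equiv₀ (Coh.toAb S.X₃) isTerminalTop).symm z
  have hx : x ∈ LinearMap.ker (deltaLin k hS 0) := LinearMap.mem_ker.2 (Subsingleton.elim _ _)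
  rw [CurveCohLib.ker_deltaLin k hS 0] at hx
  obtain ⟨y, hy⟩ := hx
  refine ⟨Sheaf.H.equiv₀ (Coh.toAb S.X₂) isTerminalTop y, ?_⟩
  refine (Sheaf.H.equiv₀_naturality isTerminalTop ((QCoh.toAbFunctor X).map S.g) y).trans ?_
  exact (congrArg (Sheaf.H.equiv₀ (Coh.toAb S.X₃) isTerminalTop) hy).trans (AddEquiv.apply_symm_apply _ _)

theorem commIso_tmSh (M N : X.Modules) {U : X.Opens} (a : (DCoh.toP.obj M).obj (op U))
    (b : (DCoh.toP.obj N).obj (op U)) :
    (DCoh.toP.map (commIso M N).hom).app (op U) (tmSh M N a b) = tmSh N M b a :=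
  (congrArg (fun g : DCoh.toP.obj M ⊗ DCoh.toP.obj N ⟶ _ => g.app (op U) (tm a b))
    (unitShP_naturality (β_ (DCoh.toP.obj M) (DCoh.toP.obj N)).hom)).symm

/-- Sections of `E ⊗ O` are pure tensors. -/
theorem exists_tmSh_one (E : X.Modules) {U : X.Opens}
    (z : (DCoh.toP.obj ((DCoh.tensorBi.obj E).obj (Coh.structureModule X))).obj (op U)) :
    ∃ e : (DCoh.toP.obj E).obj (op U), z = tmSh E (Coh.structureModule X) e (1 : Γ(X, U)) := by
  let c := commIso E (Coh.structureModule X) ≪≫ structureTensorIso E
  let e : (DCoh.toP.obj E).obj (op U) := (DCoh.toP.map c.hom).app (op U) z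
  refine ⟨e, ?_⟩
  have hinj : Function.Injective ((DCoh.toP.map c.hom).app (op U)) := fun a b hab => by
    have h := congrArg ((DCoh.toP.map c.inv).app (op U)) hab
    have hid : ∀ a, (DCoh.toP.map c.inv).app (op U) ((DCoh.toP.map c.hom).app (op U) a) = a := fun a =>
      congrArg (fun g : _ ⟶ _ => (DCoh.toP.map g).app (op U) a) c.hom_inv_id
    rwa [hid, hid] at h
  apply hinj
  refine Eq.symm ((congrArg ((DCoh.toP.map (structureTensorIso E).hom).app (op U))
    (commIso_tmSh E (Coh.structureModule X) e (1 : Γ(X, U)))).trans ?_)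
  refine (KodV43.structureTensorIso_tmSh E (1 : Γ(X, U)) e).trans ?_
  exact one_smul _ _

/-- The additive map from the sections of the tensor presheaf to those of the tensor product. -/
def mulTop (E L : X.Modules) :
    (DCoh.toP.obj E ⊗ DCoh.toP.obj L).obj (op (⊤ : X.Opens)) →+
      (DCoh.toP.obj ((DCoh.tensorBi.obj E).obj L)).obj (op (⊤ : X.Opens)) :=
  ((unitShP (DCoh.toP.obj E ⊗ DCoh.toP.obj L)).app (op ⊤)).hom.toAddMonoidHom

theorem mulTop_surjective_of_restrict (k : Type u) [Field k] [X.Over (Spec (CommRingCat.of k))]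
    {E L : X.Modules} (hE : FlatMod.IsFinLocFree E) (hL : FlatMod.IsFinLocFree L) (I : X.IdealSheafData)
    (iL : (DCoh.tensorBi.obj L).obj (ClSub.idealMod I) ≅ Coh.structureModule X)
    (hreg : Subsingleton (Coh.HH X (Coh.structureModule X) 1))
    (h1 : Subsingleton (Coh.HH X ((DCoh.tensorBi.obj E).obj (ClSub.idealMod I)) 1))
    (hD : Function.Surjective (mulTop ((DCoh.tensorBi.obj E).obj (ClSub.quotMod I))
      ((DCoh.tensorBi.obj L).obj (ClSub.quotMod I)))) :
    Function.Surjective (mulTop E L) := by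
  let π := ClSub.toSubscheme I
  let O := Coh.structureModule X
  let Q := ClSub.quotMod I
  haveI := CurvePoint.epi_toSubscheme I
  have hI : (ShortComplex.mk (ClSub.idealModι I) π (kernel.condition _)).ShortExact :=
    CurveSlope.shortExact_kernel_of_epi _
  have hEI := shortExact_tensor hE _ _ _ hI
  have hLI := shortExact_tensor hL _ _ _ hI
  let t : O ⟶ L := iL.inv ≫ (DCoh.tensorBi.obj L).map (ClSub.idealModι I) ≫ (tensorUnitIso L).hom
  let q : L ⟶ (DCoh.tensorBi.obj L).obj Q := (tensorUnitIso L).inv ≫ (DCoh.tensorBi.obj L).map π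
  let f : E ⟶ (DCoh.tensorBi.obj E).obj Q := (tensorUnitIso E).inv ≫ (DCoh.tensorBi.obj E).map π
  have htq : t ≫ q = 0 := by
    simp only [t, q, Category.assoc, Iso.hom_inv_id_assoc]
    rw [← Functor.map_comp, show ClSub.idealModι I ≫ π = 0 from kernel.condition _, Functor.map_zero, comp_zero]
  have hS : (ShortComplex.mk t q htq).ShortExact := by
    refine ShortComplex.shortExact_of_iso (S₁ := ShortComplex.mk _ _ _) (ShortComplex.isoMk iL (tensorUnitIso L) (Iso.refl _) ?_ ?_) hLI
    · simp [t]
    · simp [q]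
  haveI hreg' : Subsingleton (Coh.HH X (ShortComplex.mk t q htq).X₁ 1) := hreg
  have hqs := surjective_app_top k hS hreg'
  have hfs : Function.Surjective (f.app ⊤) := by
    intro z
    obtain ⟨y, hy⟩ := surjective_app_top k hEI h1 z
    refine ⟨(tensorUnitIso E).hom.app ⊤ y, ?_⟩
    refine Eq.trans ?_ hy
    exact congrArg (fun g : _ ⟶ _ => ((DCoh.tensorBi.obj E).map π).app ⊤ (Scheme.Modules.Hom.app g ⊤ y))
      (tensorUnitIso E).hom_inv_id
  have hES := shortExact_tensor hE _ _ _ hS
  let Φ := (DCoh.tensorBi.obj E).map q ≫ (DCoh.tensorBi.map f).app ((DCoh.tensorBi.obj L).obj Q)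
  have hΦ : ∀ (a : (DCoh.toP.obj E).obj (op (⊤ : X.Opens))) (b : (DCoh.toP.obj L).obj (op (⊤ : X.Opens))),
      (DCoh.toP.map Φ).app (op ⊤) (tmSh E L a b) =
        tmSh _ _ ((DCoh.toP.map f).app (op ⊤) a) ((DCoh.toP.map q).app (op ⊤) b) := fun a b =>
    (congrArg ((DCoh.toP.map ((DCoh.tensorBi.map f).app _)).app (op ⊤))
      (tmSh_naturality_right E q a b)).trans (tmSh_naturality_left f _ a _)
  have hmono : Mono ((DCoh.tensorBi.map f).app ((DCoh.tensorBi.obj L).obj Q)) := by
    haveI := mono_whiskerRight_restrict I E L hE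
    rw [Functor.map_comp, NatTrans.comp_app]
    exact mono_comp _ _
  intro σ
  obtain ⟨w, hw⟩ := hD ((DCoh.toP.map Φ).app (op ⊤) σ)
  have hlift : ∀ w, ∃ v, (DCoh.toP.map Φ).app (op ⊤) (mulTop E L v) =
      mulTop ((DCoh.tensorBi.obj E).obj Q) ((DCoh.tensorBi.obj L).obj Q) w := by
    intro w
    induction w using TensorProduct.induction_on with
    | zero => exact ⟨0, by rw [map_zero, map_zero, map_zero]⟩
    | tmul a b =>
      obtain ⟨a', ha'⟩ := hfs a
      obtain ⟨b', hb'⟩ := hqs b
      refine ⟨tm a' b', (hΦ a' b').trans ?_⟩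
      exact congrArg₂ (fun x y => tmSh ((DCoh.tensorBi.obj E).obj Q) ((DCoh.tensorBi.obj L).obj Q) (U := ⊤) x y) ha' hb'
    | add u v hu hv =>
      obtain ⟨u', hu'⟩ := hu
      obtain ⟨v', hv'⟩ := hv
      exact ⟨u' + v', by rw [map_add, map_add, hu', hv', map_add]⟩
  obtain ⟨v, hv⟩ := hlift w
  have h0 : ((DCoh.tensorBi.obj E).map q).app ⊤ (σ - mulTop E L v) = 0 := by
    have hinj : Function.Injective (((DCoh.tensorBi.map f).app ((DCoh.tensorBi.obj L).obj Q)).app ⊤) :=
      QCoh.app_injective _ ⊤
    apply hinj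
    rw [map_zero]
    have h2 : (DCoh.toP.map Φ).app (op ⊤) (σ - mulTop E L v) = 0 := by
      rw [map_sub, hv, hw, sub_self]
    exact h2
  obtain ⟨z, hz⟩ := QCoh.exists_app_f_eq hES ⊤ (σ - mulTop E L v) h0
  obtain ⟨e, rfl⟩ := exists_tmSh_one E z
  refine ⟨tm e ((DCoh.toP.map t).app (op ⊤) (1 : Γ(X, ⊤))) + v, ?_⟩
  rw [map_add]
  refine (congrArg (· + mulTop E L v) ?_).trans (sub_add_cancel σ (mulTop E L v))
  exact (tmSh_naturality_right E t e _).symm.trans hz

end

end Groth.Agent.AdjLin43
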